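/-
A symplectic plane over the quadratic extension `E` seen over `F` in characteristic two: the semilinear isometries
have no proper overgroup among the isometries of the trace form other than themselves.
-/
import Cfsg.Agent.Lib.Classical.FieldExt.Symp.Basic

set_option autoImplicit false
set_option linter.style.haveILetI false
set_option linter.unusedSectionVars false

namespace Cfsg.Agent.Classical.SpFour

open Cfsg.Agent.Classical.FieldExt Cfsg.Agent.Classical.FieldExt.Symp

variable {F E V : Type*} [Field F] [Field E] [Algebra F E] [Finite E] [AddCommGroup V] [Module F V] [Module E V]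
  [IsScalarTower F E V] [Finite V]

/-- The trace. -/
local notation "tr" => Algebra.trace F E

/-- The standing situation. -/
structure Setup (φ : V →ₗ[E] V →ₗ[E] E) (X : Subgroup (V ≃ₗ[F] V)) (σ : E ≃ₐ[F] E) : Prop where
  symp : IsSymp φ
  normal : ∀ g : V ≃ₗ[F] V, SemiV E g → g ∈ Isom F φ → g ∈ X
  le_isom : X ≤ Isom F φ
  two : (2 : E) = 0
  deg : Module.finrank F E = 2
  ne_one : σ ≠ 1
  plane : ∀ e u : V, e ≠ 0 → φ u e = 0 → ∃ c : E, u = c • e

/-- A semilinear map is semilinear for a Galois element. -/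
theorem semi_gal {g : V ≃ₗ[F] V} (hg : SemiV E g) {a : V} (ha : a ≠ 0) :
    ∃ τ : E ≃ₐ[F] E, ∀ (c : E) v, g (c • v) = τ c • g v := by
  obtain ⟨t, ht⟩ := hg
  have hga : g a ≠ 0 := fun h => ha (g.map_eq_zero_iff.mp h)
  have hinj : Function.Injective fun c : E => c • g a := smul_left_injective E hga
  have hmul : ∀ x y, t (x * y) = t x * t y := fun x y => hinj (by
    simp only
    rw [← ht, mul_smul, ht, ht, smul_smul])
  have hadd : ∀ x y, t (x + y) = t x + t y := fun x y => hinj (by
    simp only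
    rw [← ht, add_smul, map_add, ht, ht, ← add_smul])
  have hone : t 1 = 1 := hinj (by simp only; rw [← ht, one_smul, one_smul])
  let τ : E →ₐ[F] E :=
    { toFun := t
      map_one' := hone
      map_mul' := hmul
      map_zero' := hinj (by simp only; rw [← ht, zero_smul, map_zero, zero_smul])
      map_add' := hadd
      commutes' := fun a₀ => hinj (by simp only; rw [← ht, algebraMap_smul, map_smul, algebraMap_smul]) }
  exact ⟨AlgEquiv.ofBijective τ (Finite.injective_iff_bijective.mp τ.injective), ht⟩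

theorem semiV_mul {g h : V ≃ₗ[F] V} (hg : SemiV E g) (hh : SemiV E h) : SemiV E (g * h) := by
  obtain ⟨s, hs⟩ := hg
  obtain ⟨t, ht⟩ := hh
  exact ⟨fun c => s (t c), fun c v => by rw [LinearEquiv.mul_apply, LinearEquiv.mul_apply, ht, hs]⟩

theorem semiV_inv {g : V ≃ₗ[F] V} (hg : SemiV E g) {a : V} (ha : a ≠ 0) : SemiV E g⁻¹ := by
  obtain ⟨τ, hτ⟩ := semi_gal hg ha
  refine ⟨τ.symm, fun c v => g.injective ?_⟩
  rw [hτ, AlgEquiv.apply_symm_apply, show g (g⁻¹ v) = v from g.apply_symm_apply v]
  exact g.apply_symm_apply _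

variable {φ : V →ₗ[E] V →ₗ[E] E} {X : Subgroup (V ≃ₗ[F] V)} {σ : E ≃ₐ[F] E}

namespace Setup

variable (S : Setup φ X σ)

include S

theorem add_self (x : E) : x + x = 0 := by rw [← two_mul, S.two, zero_mul]

theorem swap (x y : V) : φ x y = φ y x := by
  rw [anti S.symp y x, neg_eq_iff_add_eq_zero]
  exact S.add_self _

theorem gal_cases (τ : E ≃ₐ[F] E) : τ = 1 ∨ τ = σ := by
  haveI : Finite (E ≃ₐ[F] E) := Finite.of_injective (fun g : E ≃ₐ[F] E => (g : E → E)) DFunLike.coe_injective
  obtain ⟨u, v, -, huv⟩ := Nat.card_eq_two_iff.mp (gal_card S.deg)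
  have hmem : ∀ ρ : E ≃ₐ[F] E, ρ = u ∨ ρ = v := fun ρ => by
    have h : ρ ∈ ({u, v} : Set (E ≃ₐ[F] E)) := huv ▸ Set.mem_univ ρ
    simpa using h
  have hs := S.ne_one
  rcases hmem τ with rfl | rfl <;> rcases hmem 1 with h1 | h1 <;> rcases hmem σ with h2 | h2 <;> simp_all

theorem tr_eq (x : E) : algebraMap F E (tr x) = x + σ x := by
  classical
  letI : Fintype (E ≃ₐ[F] E) := Fintype.ofFinite _
  rw [tr_sum, show (Finset.univ : Finset (E ≃ₐ[F] E)) = {1, σ} from Finset.ext fun τ => by simpa using S.gal_cases τ,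
    Finset.sum_pair (Ne.symm S.ne_one)]
  rfl

theorem fixed {x : E} (h : x + σ x = 0) : σ x = x := by
  have := eq_neg_of_add_eq_zero_right h
  rw [this, neg_eq_iff_add_eq_zero, S.add_self]

theorem mem_base {x : E} (h : σ x = x) : ∃ c : F, algebraMap F E c = x := by
  haveI := finiteDimensional (F := F) (E := E)
  haveI : Finite F := Finite.of_injective _ (algebraMap F E).injective
  refine (IsGalois.mem_range_algebraMap_iff_fixed (F := F) x).mpr fun τ => ?_
  rcases S.gal_cases τ with rfl | rfl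
  · rfl
  · exact h

theorem two' : (2 : F) = 0 := (algebraMap F E).injective (by rw [map_ofNat, map_zero]; exact S.two)

theorem sq_surj (c : F) : ∃ s : F, s * s = c := by
  haveI : Finite F := Finite.of_injective _ (algebraMap F E).injective
  exact Finite.surjective_of_injective (f := fun s : F => s * s) (fun a b h => by
    have h2 := S.two'
    have : (a - b) * (a - b) = 0 := by linear_combination h + (b * b - a * b) * h2
    exact sub_eq_zero.mp (mul_self_eq_zero.mp this)) c

theorem coeff (A : E →ₗ[F] E) : ∃ a b : E, ∀ x, A x = a * x + b * σ x := by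
  classical
  letI : Fintype (E ≃ₐ[F] E) := Fintype.ofFinite _
  obtain ⟨c, hc⟩ := exists_coeff S.deg A
  refine ⟨c 1, c σ, fun x => ?_⟩
  rw [hc, show (Finset.univ : Finset (E ≃ₐ[F] E)) = {1, σ} from Finset.ext fun τ => by simpa using S.gal_cases τ,
    Finset.sum_pair (Ne.symm S.ne_one)]
  rfl

theorem expand {a a' : V} (h : φ a' a = 1) (x : V) : x = φ x a • a' + φ a' x • a := by
  have ha : a ≠ 0 := fun e => by rw [e, map_zero] at h; exact zero_ne_one h
  obtain ⟨c, hc⟩ := S.plane a _ ha (decomp S.symp h x)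
  have h2 := congrArg (φ a') hc
  rw [map_sub, map_smul, map_smul, h, S.symp.alt, smul_zero, sub_zero, smul_eq_mul, mul_one] at h2
  rw [← h2] at hc
  rw [← hc, add_sub_cancel]

theorem line_fix {g : V ≃ₗ[F] V} (hg : g ∈ X) {a a' : V} (h : φ a' a = 1) (hfix : ∀ c : E, g (c • a) = c • a) :
    ∃ δ : E →ₗ[F] E, g = tvT S.symp a δ := by
  refine ⟨((φ a').restrictScalars F).comp
    ((g.toLinearMap - LinearMap.id).comp ((LinearMap.toSpanSingleton E V a').restrictScalars F)), ?_⟩
  have ha : a ≠ 0 := fun e => by rw [e, map_zero] at h; exact zero_ne_one h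
  refine LinearEquiv.ext fun x => ?_
  obtain ⟨p, hp⟩ : ∃ p, p = φ x a := ⟨_, rfl⟩
  obtain ⟨c, hc⟩ := S.plane a (g (p • a') - p • a') ha (by
    rw [map_sub, LinearMap.sub_apply, pair_line (S.le_isom hg) hfix, sub_self])
  have hd : φ a' (g (p • a') - p • a') = c := by rw [hc, map_smul, h, smul_eq_mul, mul_one]
  rw [tvT_apply, ← hp]
  change g x = x + φ a' (g (p • a') - p • a') • a
  rw [hd, ← hc]
  conv_lhs => rw [S.expand h x, map_add, hfix, ← hp]
  conv_rhs => enter [1]; rw [S.expand h x, ← hp]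
  abel

/-- If some element fixing a line pointwise is not linear, all transvections are present. -/
theorem all_transvections {g : V ≃ₗ[F] V} (hg : g ∈ X) {a a' : V} (h : φ a' a = 1)
    (hfix : ∀ c : E, g (c • a) = c • a) (hn : ¬ SemiV E g) (v : V) (c : F) :
    tvT S.symp v (c • (Algebra.linearMap F E).comp (tr)) ∈ X := by
  haveI := finiteDimensional (F := F) (E := E)
  haveI : Finite F := Finite.of_injective _ (algebraMap F E).injective
  have ha : a ≠ 0 := fun e => by rw [e, map_zero] at h; exact zero_ne_one h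
  obtain ⟨δ, rfl⟩ := S.line_fix hg h hfix
  obtain ⟨l, k, hlk⟩ := S.coeff δ
  have hk0 : k ≠ 0 := fun e => hn (by
    have : δ = mulE (F := F) l := LinearMap.ext fun x => by rw [hlk, e, zero_mul, add_zero, mulE_apply]
    exact this ▸ ⟨id, tvT_mulE_smul S.symp a l⟩)
  have hadj : ∀ p q, tr (p * δ q) = tr (q * δ p) := fun p q => by
    have hh := S.le_isom hg (p • a') (q • a')
    simp only [tvT_apply, map_smul, LinearMap.smul_apply, h, smul_eq_mul, mul_one, map_add, LinearMap.add_apply,
      S.symp.alt, mul_zero, add_zero, zero_add, anti S.symp a' a] at hh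
    rw [map_zero, mul_neg, mul_one, mul_neg, map_neg, neg_add_eq_sub, sub_eq_zero] at hh
    rw [mul_comm p, hh]
  obtain ⟨q, hq⟩ := Algebra.trace_surjective F E 1
  have hq' : q + σ q = 1 := by rw [← S.tr_eq, hq, map_one]
  have hkσ : σ k = k := by
    refine S.fixed ?_
    have h1 := congrArg (algebraMap F E) (hadj 1 q)
    rw [S.tr_eq, S.tr_eq, hlk, hlk, map_one, one_mul, mul_one, mul_one, map_add, map_mul, map_mul, map_mul, map_add] at h1
    have hss : σ (σ q) = q := by
      rcases S.gal_cases (σ * σ) with e | e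
      · have := congrArg (fun τ : E ≃ₐ[F] E => τ q) e; simpa using this
      · exact absurd (mul_left_cancel (e.trans (mul_one σ).symm)) S.ne_one
    rw [hss] at h1
    linear_combination h1 + (q * k + σ q * σ k) * S.two - (k + σ k) * hq'
  obtain ⟨k₀, rfl⟩ := S.mem_base hkσ
  have hk00 : k₀ ≠ 0 := fun e => hk0 (by rw [e, map_zero])
  have hlin : ∀ z : E, tvT S.symp a (mulE z) ∈ X := fun z => linIso_mem S.normal (tvT_linIso S.symp a z)
  have hsig : tvT S.symp a (k₀ • galMap σ) ∈ X := by
    have e : δ + mulE (-l) = k₀ • galMap σ := LinearMap.ext fun x => by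
      rw [LinearMap.add_apply, LinearMap.smul_apply, hlk, mulE_apply, galMap_apply, Algebra.smul_def]; ring
    rw [← e, ← tvT_mul]
    exact X.mul_mem hg (hlin _)
  have hall : ∀ c₀ : F, tvT S.symp a (c₀ • galMap σ) ∈ X := fun c₀ => by
    rcases eq_or_ne c₀ 0 with rfl | hc₀
    · rw [zero_smul, tvT_zero]; exact one_mem X
    · obtain ⟨s, hs⟩ := S.sq_surj (c₀ / k₀)
      have hs0 : s ≠ 0 := fun e => div_ne_zero hc₀ hk00 (by rw [← hs, e, mul_zero])
      obtain ⟨m, hmX, hml, hma⟩ := exists_move S.normal S.symp ha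
        (smul_ne_zero ((map_ne_zero (algebraMap F E)).mpr hs0) ha)
      have e : (mulE (algebraMap F E s)).comp ((k₀ • galMap σ).comp (mulE (algebraMap F E s))) = c₀ • galMap σ :=
        LinearMap.ext fun x => by
          simp only [LinearMap.comp_apply, LinearMap.smul_apply, mulE_apply, galMap_apply, map_mul, AlgEquiv.commutes]
          simp only [Algebra.smul_def]
          rw [← mul_assoc (algebraMap F E k₀), ← mul_assoc (algebraMap F E s), ← map_mul, ← map_mul,
            show s * (k₀ * s) = c₀ by rw [mul_left_comm, hs, mul_div_cancel₀ _ hk00]]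
      rw [← e, ← tvT_scale, ← hma, ← tvT_conj S.symp hml]
      exact X.mul_mem (X.mul_mem hmX hsig) (X.inv_mem hmX)
  rcases eq_or_ne v 0 with rfl | hv
  · convert one_mem X
    exact LinearEquiv.ext fun x => by rw [tvT_apply, smul_zero, add_zero]; rfl
  obtain ⟨m, hmX, hml, hma⟩ := exists_move S.normal S.symp ha hv
  rw [← hma, ← tvT_conj S.symp hml]
  refine X.mul_mem (X.mul_mem hmX ?_) (X.inv_mem hmX)
  have e : c • (Algebra.linearMap F E).comp (tr) = mulE (algebraMap F E c) + c • galMap σ :=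
    LinearMap.ext fun x => by
      rw [LinearMap.smul_apply, LinearMap.comp_apply, Algebra.linearMap_apply, S.tr_eq, LinearMap.add_apply,
        LinearMap.smul_apply, mulE_apply, galMap_apply, Algebra.smul_def, Algebra.smul_def, mul_add]
  rw [e, ← tvT_mul]
  exact X.mul_mem (hlin _) (hall c)

/-- An element of `X` preserving a line is semilinear, if those fixing a line pointwise are. -/
theorem semi_of_line (hK : ∀ g ∈ X, ∀ a : V, a ≠ 0 → (∀ c : E, g (c • a) = c • a) → SemiV E g)
    {h : V ≃ₗ[F] V} (hh : h ∈ X) {a : V} (ha : a ≠ 0) (hL : ∀ c : E, ∃ d : E, h (c • a) = d • a) :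
    SemiV E h := by
  haveI := finiteDimensional (F := F) (E := E)
  haveI : Finite F := Finite.of_injective _ (algebraMap F E).injective
  obtain ⟨a', ha'⟩ := exists_dual S.symp ha
  obtain ⟨γ, hγd⟩ : ∃ γ : E →ₗ[F] E, γ =
      ((φ a').restrictScalars F).comp (h.toLinearMap.comp ((LinearMap.toSpanSingleton E V a).restrictScalars F)) :=
    ⟨_, rfl⟩
  have hγ : ∀ c : E, h (c • a) = γ c • a := fun c => by
    obtain ⟨d, hd⟩ := hL c
    have : γ c = φ a' (h (c • a)) := by rw [hγd]; rfl
    rw [this, hd, map_smul, ha', smul_eq_mul, mul_one]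
  have hγinj : Function.Injective γ := fun x y e => smul_left_injective E ha (h.injective (by
    simp only; rw [hγ, hγ, e]))
  have hγsurj : Function.Surjective γ := Finite.surjective_of_injective hγinj
  have hπ : ∀ (l : E), ∃ μ : E, ∀ p : E, γ (l * φ (h⁻¹ (p • a')) a) = μ * p := by
    intro l
    have hg : h * tvT S.symp a (mulE (F := F) l) * h⁻¹ ∈ X :=
      X.mul_mem (X.mul_mem hh (linIso_mem S.normal (tvT_linIso S.symp a l))) (X.inv_mem hh)
    have happ : ∀ y, (h * tvT S.symp a (mulE (F := F) l) * h⁻¹) y = y + γ (l * φ (h⁻¹ y) a) • a := fun y => by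
      rw [LinearEquiv.mul_apply, LinearEquiv.mul_apply, tvT_apply, map_add, hγ, mulE_apply,
        show h (h⁻¹ y) = y from h.apply_symm_apply y]
    have hfix : ∀ c : E, (h * tvT S.symp a (mulE (F := F) l) * h⁻¹) (c • a) = c • a := fun c => by
      obtain ⟨d, rfl⟩ := hγsurj c
      rw [happ, show h⁻¹ (γ d • a) = d • a by rw [← hγ]; exact h.symm_apply_apply _, map_smul, LinearMap.smul_apply,
        S.symp.alt, smul_zero, mul_zero, map_zero, zero_smul, add_zero]
    obtain ⟨τ, hτ⟩ := semi_gal (hK _ hg a ha hfix) ha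
    have hτ1 : ∀ c, τ c = c := fun c => by
      have e1 := hτ c a
      have e2 := hfix 1
      rw [one_smul] at e2
      rw [hfix, e2] at e1
      exact (smul_left_injective E ha e1).symm
    refine ⟨γ (l * φ (h⁻¹ a') a), fun p => ?_⟩
    have e1 := hτ p a'
    rw [hτ1, happ, happ, smul_add, add_right_inj, smul_smul] at e1
    rw [smul_left_injective E ha e1, mul_comm]
  obtain ⟨μ, hμ⟩ := hπ 1
  simp only [one_mul] at hμ
  have hμ0 : μ ≠ 0 := fun e => by
    have h1 := hμ 1
    rw [e, zero_mul, ← map_zero γ, one_smul] at h1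
    obtain ⟨d, hd⟩ := S.plane a _ ha (hγinj h1)
    have h2 := congrArg h hd
    rw [show h (h⁻¹ a') = a' from h.apply_symm_apply a', hγ] at h2
    have h3 : φ a' a = 0 := by rw [h2, map_smul, LinearMap.smul_apply, S.symp.alt, smul_zero]
    exact one_ne_zero (ha'.symm.trans h3)
  have hsemi : ∀ l x, γ (l * x) = γ l * (γ 1)⁻¹ * γ x := by
    have hmul : ∀ l, ∃ t, ∀ x, γ (l * x) = t * γ x := fun l => by
      obtain ⟨ν, hν⟩ := hπ l
      refine ⟨ν * μ⁻¹, fun x => ?_⟩
      have e : φ (h⁻¹ ((μ⁻¹ * γ x) • a')) a = x := hγinj (by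
        rw [hμ, ← mul_assoc, mul_inv_cancel₀ hμ0, one_mul])
      have := hν (μ⁻¹ * γ x)
      rw [e] at this
      rw [this, mul_assoc]
    intro l x
    obtain ⟨t, ht⟩ := hmul l
    have h1 : γ 1 ≠ 0 := fun e => one_ne_zero (hγinj (e.trans (map_zero γ).symm))
    have h2 := ht 1
    rw [mul_one] at h2
    rw [ht, h2, mul_assoc t, mul_inv_cancel₀ h1, mul_one]
  obtain ⟨c₁, hc₁⟩ : ∃ c₁, c₁ = γ 1 := ⟨_, rfl⟩
  rw [← hc₁] at hsemi
  have hc0 : c₁ ≠ 0 := fun e => one_ne_zero (hγinj ((hc₁ ▸ e : γ 1 = 0).trans (map_zero γ).symm))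
  let τ : E →ₐ[F] E :=
    { toFun := fun c => γ c * c₁⁻¹
      map_one' := by rw [← hc₁, mul_inv_cancel₀ hc0]
      map_mul' := fun u v => by rw [hsemi]; ring
      map_zero' := by rw [map_zero, zero_mul]
      map_add' := fun u v => by rw [map_add, add_mul]
      commutes' := fun u => by
        rw [Algebra.algebraMap_eq_smul_one, map_smul, ← hc₁, smul_mul_assoc, mul_inv_cancel₀ hc0] }
  let τe : E ≃ₐ[F] E := AlgEquiv.ofBijective τ (Finite.injective_iff_bijective.mp τ.injective)
  have hτe : ∀ c, γ c = τe c * c₁ := fun c => by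
    change γ c = γ c * c₁⁻¹ * c₁
    rw [mul_assoc, inv_mul_cancel₀ hc0, mul_one]
  -- the coordinate-wise semilinear isometry
  let nmap : V →ₗ[F] V :=
    { toFun := fun x => (τe (φ x a) * c₁⁻¹) • a' + (τe (φ a' x) * c₁) • a
      map_add' := fun x y => by simp only [map_add, LinearMap.add_apply, add_mul, add_smul]; abel
      map_smul' := fun u x => by
        simp only [RingHom.id_apply, LinearMap.map_smul_of_tower, LinearMap.smul_apply, map_smul, smul_add,
          smul_mul_assoc, smul_assoc] }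
  have hn : ∀ x, nmap x = (τe (φ x a) * c₁⁻¹) • a' + (τe (φ a' x) * c₁) • a := fun x => rfl
  have hniso : ∀ x y, φ (nmap x) (nmap y) = τe (φ x y) := fun x y => by
    conv_rhs => rw [S.expand ha' x, S.expand ha' y]
    simp only [hn, map_add, LinearMap.add_apply, map_smul, LinearMap.smul_apply, S.symp.alt, ha', anti S.symp a' a,
      smul_eq_mul, map_mul, map_neg, map_one, map_zero]
    field_simp
    ring
  have hninj : Function.Injective nmap := (injective_iff_map_eq_zero _).mpr fun x hx => S.symp.nondeg x fun y => by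
    have h1 := hniso x y
    rw [hx, map_zero, LinearMap.zero_apply] at h1
    exact τe.injective (h1.symm.trans (map_zero τe).symm)
  let n : V ≃ₗ[F] V := LinearEquiv.ofBijective nmap (Finite.injective_iff_bijective.mp hninj)
  have hnsemi : SemiV E n := ⟨τe, fun c v => by
    change nmap (c • v) = τe c • nmap v
    simp only [hn, map_smul, LinearMap.smul_apply, smul_eq_mul, map_mul, smul_add, smul_smul, mul_assoc]⟩
  have hnX : n ∈ X := S.normal n hnsemi fun x y => by
    change tr (φ (nmap x) (nmap y)) = _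
    rw [hniso, tr_gal]
  have hfix : ∀ c : E, (n⁻¹ * h) (c • a) = c • a := fun c => by
    refine n.injective ?_
    rw [LinearEquiv.mul_apply, show n (n⁻¹ (h (c • a))) = h (c • a) from n.apply_symm_apply _, hγ, hτe]
    change _ = nmap (c • a)
    simp only [hn, map_smul, LinearMap.smul_apply, S.symp.alt, ha', smul_eq_mul, mul_zero, mul_one, map_zero,
      zero_mul, zero_smul, zero_add]
  have := semiV_mul hnsemi (hK _ (X.mul_mem (X.inv_mem hnX) hh) a ha hfix)
  rwa [mul_inv_cancel_left] at this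

/-- Every element of `X` is semilinear, if those fixing a line pointwise are. -/
theorem semi_all (hK : ∀ g ∈ X, ∀ a : V, a ≠ 0 → (∀ c : E, g (c • a) = c • a) → SemiV E g)
    {g : V ≃ₗ[F] V} (hg : g ∈ X) {a : V} (ha : a ≠ 0) : SemiV E g := by
  haveI := finiteDimensional (F := F) (E := E)
  haveI : Finite F := Finite.of_injective _ (algebraMap F E).injective
  have hga : g a ≠ 0 := fun e => ha (g.map_eq_zero_iff.mp e)
  obtain ⟨a', ha'⟩ := exists_dual S.symp hga
  by_cases hline : ∀ c : E, ∃ d : E, g (c • a) = d • g a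
  · obtain ⟨k, hkX, hkl, hka⟩ := exists_move S.normal S.symp hga ha
    have h1 : SemiV E (k * g) := S.semi_of_line hK (X.mul_mem hkX hg) ha fun c => by
      obtain ⟨d, hd⟩ := hline c
      exact ⟨d, by rw [LinearEquiv.mul_apply, hd, hkl.1, hka]⟩
    have := semiV_mul (semiV_inv (⟨id, hkl.1⟩ : SemiV E k) ha) h1
    rwa [inv_mul_cancel_left] at this
  exfalso
  push Not at hline
  obtain ⟨c₀, hc₀⟩ := hline
  obtain ⟨π, hπd⟩ : ∃ π, π = φ (g (c₀ • a)) (g a) := ⟨_, rfl⟩
  have hπ0 : π ≠ 0 := fun e => by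
    obtain ⟨d, hd⟩ := S.plane (g a) _ hga (hπd ▸ e)
    exact hc₀ d hd
  have hπσ : σ π = π := S.fixed (by
    rw [← S.tr_eq, hπd, S.le_isom hg, map_smul, LinearMap.smul_apply, S.symp.alt, smul_zero, map_zero, map_zero])
  obtain ⟨π₀, hπ₀⟩ := S.mem_base hπσ
  obtain ⟨m, hmd⟩ : ∃ m, m = tvT S.symp (g a) (mulE (F := F) (1 : E)) := ⟨_, rfl⟩
  have hm : ∀ z, m z = z + φ z (g a) • g a := fun z => by rw [hmd, tvT_apply, mulE_apply, one_mul]
  obtain ⟨h, hhd⟩ : ∃ h, h = g⁻¹ * m * g := ⟨_, rfl⟩
  have hhX : h ∈ X := hhd ▸ X.mul_mem (X.mul_mem (X.inv_mem hg)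
    (hmd ▸ linIso_mem S.normal (tvT_linIso S.symp _ _))) hg
  have hgi : ∀ z, g⁻¹ (g z) = z := g.symm_apply_apply
  have hha : h a = a := by
    rw [hhd, LinearEquiv.mul_apply, LinearEquiv.mul_apply, hm, S.symp.alt, zero_smul, add_zero, hgi]
  have hhc : h (c₀ • a) = (c₀ + π) • a := by
    rw [hhd, LinearEquiv.mul_apply, LinearEquiv.mul_apply, hm, ← hπd, ← hπ₀, algebraMap_smul, map_add,
      map_smul g⁻¹ π₀, hgi, hgi, add_smul, algebraMap_smul]
  -- the line is a plane over the small field
  have hspan : ∀ c : E, ∃ s t : F, c = algebraMap F E s + algebraMap F E t * c₀ := by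
    have hnb : ∀ s : F, algebraMap F E s ≠ c₀ := fun s e => hc₀ (algebraMap F E s) (by
      rw [← e, algebraMap_smul, algebraMap_smul, map_smul])
    have hli : LinearIndependent F ![(1 : E), c₀] := LinearIndependent.pair_iff.mpr fun s t hst => by
      by_cases ht : t = 0
      · rw [ht, zero_smul, add_zero, smul_eq_zero] at hst
        exact ⟨hst.resolve_right one_ne_zero, ht⟩
      · refine absurd ?_ (hnb (-(s / t)))
        rw [Algebra.smul_def, Algebra.smul_def, mul_one] at hst
        rw [map_neg, map_div₀, neg_eq_iff_add_eq_zero, div_add' _ _ _ ((map_ne_zero _).mpr ht), div_eq_zero_iff]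
        left
        linear_combination hst
    intro c
    have htop := hli.span_eq_top_of_card_eq_finrank (by rw [Fintype.card_fin, S.deg])
    have hc : c ∈ Submodule.span F (Set.range ![(1 : E), c₀]) := by rw [htop]; trivial
    rw [Matrix.range_cons, Matrix.range_cons, Matrix.range_empty, Set.union_empty, Set.singleton_union,
      Submodule.mem_span_pair] at hc
    obtain ⟨s, t, hst⟩ := hc
    exact ⟨s, t, by rw [← hst, Algebra.smul_def, Algebra.smul_def, mul_one]⟩
  have hhL : ∀ c : E, ∃ d : E, h (c • a) = d • a := fun c => by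
    obtain ⟨s, t, rfl⟩ := hspan c
    refine ⟨algebraMap F E s + algebraMap F E t * (c₀ + π), ?_⟩
    simp only [add_smul, mul_smul, algebraMap_smul, smul_add, map_add, map_smul h, hha, hhc]
  obtain ⟨τ, hτ⟩ := semi_gal (S.semi_of_line hK hhX ha hhL) ha
  have hτσ : τ = σ := (S.gal_cases τ).resolve_left fun e => hπ0 (by
    have h1 := hτ c₀ a
    rw [e, AlgEquiv.one_apply, hha, hhc] at h1
    exact add_eq_left.mp (smul_left_injective E ha h1))
  have hhh : ∀ z, h (h z) = z := fun z => by
    rw [hhd]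
    simp only [LinearEquiv.mul_apply, show ∀ z, g (g⁻¹ z) = z from g.apply_symm_apply]
    rw [hm (m _), hm, show φ (g z + φ (g z) (g a) • g a) (g a) = φ (g z) (g a) by simp [S.symp.alt],
      add_assoc, ← add_smul, S.add_self, zero_smul, add_zero, hgi]
  have hφh : ∀ x y, φ (h x) (h y) = σ (φ x y) := fun x y => by
    refine sub_eq_zero.mp ((traceForm_nondegenerate F E).2 _ fun c => ?_)
    obtain ⟨d, rfl⟩ : ∃ d, σ d = c := σ.surjective c
    have h1 := S.le_isom hhX (d • x) y
    rw [hτ, hτσ, map_smul φ (σ d), map_smul φ d, LinearMap.smul_apply, LinearMap.smul_apply, smul_eq_mul,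
      smul_eq_mul] at h1
    rw [Algebra.traceForm_apply, mul_sub, map_sub, sub_eq_zero, h1, ← map_mul, tr_gal]
  have hzero : ∀ x, tr (φ (h x) x) = 0 := fun x => (algebraMap F E).injective (by
    have h1 := hφh x (h x)
    rw [hhh, S.swap x (h x)] at h1
    rw [S.tr_eq, map_zero, ← h1]
    exact S.add_self _)
  obtain ⟨z, hz⟩ : ∃ z, tr (φ (g a) z) ≠ 0 := by
    by_contra hcon
    push Not at hcon
    exact hga (eq_zero_of_tr S.symp hcon)
  have h1 := S.le_isom hg (h (g⁻¹ z)) (g⁻¹ z)
  rw [hzero, hhd, LinearEquiv.mul_apply, LinearEquiv.mul_apply, show g (g⁻¹ z) = z from g.apply_symm_apply z,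
    show g (g⁻¹ (m z)) = m z from g.apply_symm_apply _, hm, map_add, LinearMap.add_apply, S.symp.alt, zero_add,
    map_smul, LinearMap.smul_apply, S.swap z (g a), smul_eq_mul] at h1
  have h2 := congrArg (algebraMap F E) h1
  rw [S.tr_eq, map_zero, map_mul] at h2
  refine hz ((algebraMap F E).injective ?_)
  rw [map_zero, S.tr_eq]
  refine mul_self_eq_zero.mp ?_
  linear_combination h2 + φ (g a) z * σ (φ (g a) z) * S.two

theorem overgroup : (∀ g ∈ X, SemiV E g) ∨
    ∀ (v : V) (c : F), tvT S.symp v (c • (Algebra.linearMap F E).comp (tr)) ∈ X := by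
  by_cases hK : ∀ g ∈ X, ∀ a : V, a ≠ 0 → (∀ c : E, g (c • a) = c • a) → SemiV E g
  · left
    intro g hg
    by_cases hV : ∀ v : V, v = 0
    · exact ⟨id, fun c v => by rw [hV v, smul_zero, map_zero, id_eq, smul_zero]⟩
    push Not at hV
    obtain ⟨a, ha⟩ := hV
    exact S.semi_all hK hg ha
  · right
    push Not at hK
    obtain ⟨g, hg, a, ha, hfix, hn⟩ := hK
    obtain ⟨a', ha'⟩ := exists_dual S.symp ha
    exact S.all_transvections hg ha' hfix hn

end Setup

end Cfsg.Agent.Classical.SpFour
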