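/-
The normaliser of a self-adjoint quadratic field of matrices is maximal in `Sp_4(q)`, `q` even.
-/
import Cfsg.Agent.Lib.Classical.SpFour.FieldAbs
import Cfsg.Agent.Lib.Classical.FieldExt.Symp.Matrix

set_option autoImplicit false
set_option linter.style.haveILetI false
set_option linter.unusedSectionVars false

namespace Cfsg.Agent.Classical.SpFour

open Matrix Cfsg Cfsg.Geo Cfsg.Agent.Classical.FieldExt Cfsg.Agent.Classical.FieldExt.Symp

theorem extension_normalizer_maximal {F : Type*} [Field F] [Fintype F] (h2 : (2 : F) = 0) (m : ℕ) (hm : m = 2)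
    (K : Subalgebra F (Matrix (Fin m ⊕ Fin m) (Fin m ⊕ Fin m) F)) (hK : IsFieldSubalgebra 2 K)
    (hsa : IsSelfAdjointFor (sympForm m F) K)
    (halt : ∀ k ∈ K, ∀ v : (Fin m ⊕ Fin m → F), sympForm m F (k *ᵥ v) v = 0) :
    IsMaximalIn (spGL m F) (subalgebraNormalizer K ⊓ spGL m F) := by
  classical
  haveI : Finite K := Finite.of_injective _ Subtype.val_injective
  letI : CommRing K := { K.toRing with mul_comm := fun a b => Subtype.ext (hK.comm a a.2 b b.2) }
  have hr : Nat.Prime 2 := Nat.prime_two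
  haveI : Nonempty (Fin m ⊕ Fin m) := ⟨Sum.inl ⟨0, by omega⟩⟩
  haveI : Nontrivial K := ⟨⟨0, 1, fun e => zero_ne_one (congrArg Subtype.val e)⟩⟩
  haveI : NoZeroDivisors K := ⟨fun {a b} hab =>
    (fieldSubalgebra_mul_eq_zero hK a.2 (congrArg Subtype.val hab)).imp (fun h => Subtype.ext h) fun h => Subtype.ext h⟩
  haveI : IsDomain K := NoZeroDivisors.to_isDomain _
  letI : Field K := (Finite.isDomain_to_isField K).toField
  letI : Module K (Fin m ⊕ Fin m → F) :=
    { smul := fun k v => (k : Matrix (Fin m ⊕ Fin m) (Fin m ⊕ Fin m) F) *ᵥ v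
      one_smul := fun v => Matrix.one_mulVec v
      mul_smul := fun a b v => (Matrix.mulVec_mulVec v _ _).symm
      smul_zero := fun a => Matrix.mulVec_zero _
      smul_add := fun a u v => Matrix.mulVec_add _ u v
      add_smul := fun a b v => Matrix.add_mulVec _ _ v
      zero_smul := fun v => Matrix.zero_mulVec v }
  have hsmul : ∀ (k : K) (v : Fin m ⊕ Fin m → F),
      k • v = (k : Matrix (Fin m ⊕ Fin m) (Fin m ⊕ Fin m) F) *ᵥ v := fun _ _ => rfl
  haveI : IsScalarTower F K (Fin m ⊕ Fin m → F) :=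
    ⟨fun a k v => Matrix.smul_mulVec a (k : Matrix (Fin m ⊕ Fin m) (Fin m ⊕ Fin m) F) v⟩
  haveI : Module.Finite K (Fin m ⊕ Fin m → F) := Module.Finite.of_finite
  haveI := finiteDimensional (F := F) (E := K)
  have hrk : Module.finrank F K = 2 := hK.finrank_eq
  have hS := sympForm_isSymplectic (m := m) (F := F)
  have hnd := traceForm_nondegenerate F K
  -- the form over the big field
  have hex : ∀ u v : Fin m ⊕ Fin m → F, ∃ b : K, ∀ c : K, Algebra.trace F K (c * b) = sympForm m F (c • u) v := by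
    intro u v
    let l : Module.Dual F K :=
      { toFun := fun c => sympForm m F (c • u) v
        map_add' := fun a b => by rw [add_smul, hS.bilinear.add_left]
        map_smul' := fun a b => by rw [RingHom.id_apply, smul_assoc, hS.bilinear.smul_left, smul_eq_mul] }
    refine ⟨(LinearMap.BilinForm.toDual (Algebra.traceForm F K) hnd).symm l, fun c => ?_⟩
    have h := LinearMap.BilinForm.apply_toDual_symm_apply (hB := hnd) l c
    rw [Algebra.traceForm_apply, mul_comm] at h
    exact h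
  choose b hb using hex
  have huniq : ∀ x y : K, (∀ c, Algebra.trace F K (c * x) = Algebra.trace F K (c * y)) → x = y := fun x y h => by
    refine sub_eq_zero.mp (hnd.2 _ fun c => ?_)
    rw [Algebra.traceForm_apply, mul_sub, map_sub, h, sub_self]
  have hsa' : ∀ (k : K) (u v : Fin m ⊕ Fin m → F), sympForm m F (k • u) v = sympForm m F u (k • v) :=
    fun k u v => hsa k k.2 u v
  let φ : (Fin m ⊕ Fin m → F) →ₗ[K] (Fin m ⊕ Fin m → F) →ₗ[K] K := LinearMap.mk₂ K b
    (fun u u' v => huniq _ _ fun c => by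
      rw [mul_add, map_add, hb, hb, hb, smul_add, hS.bilinear.add_left])
    (fun d u v => huniq _ _ fun c => by rw [hb, smul_smul, smul_eq_mul, ← mul_assoc, hb])
    (fun u v v' => huniq _ _ fun c => by rw [mul_add, map_add, hb, hb, hb, hS.bilinear.add_right])
    (fun d u v => huniq _ _ fun c => by
      rw [hb, ← hsa' d, smul_smul, smul_eq_mul, ← mul_assoc, hb, mul_comm d c])
  have hφb : ∀ u v, φ u v = b u v := fun u v => rfl
  have htr : ∀ u v, Algebra.trace F K (φ u v) = sympForm m F u v := fun u v => by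
    have h := hb u v 1
    rwa [one_mul, one_smul] at h
  have hφ : IsSymp φ := by
    refine ⟨fun x => huniq _ _ fun c => ?_, fun x h => ?_⟩
    · rw [mul_zero, map_zero, hφb, hb, hsmul]
      exact halt c c.2 x
    · by_contra hx
      obtain ⟨y, hy⟩ := (hS.nondegenerate x hx).2
      exact hy (by rw [← htr, h, map_zero])
  let Φ : ((Fin m ⊕ Fin m → F) ≃ₗ[F] (Fin m ⊕ Fin m → F)) ≃* GL (Fin m ⊕ Fin m) F :=
    (LinearMap.GeneralLinearGroup.generalLinearEquiv F (Fin m ⊕ Fin m → F)).symm.trans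
      (Units.mapEquiv LinearMap.toMatrixAlgEquiv'.toMulEquiv)
  have hact : ∀ (g : (Fin m ⊕ Fin m → F) ≃ₗ[F] (Fin m ⊕ Fin m → F)) (v : Fin m ⊕ Fin m → F),
      (Φ g : Matrix (Fin m ⊕ Fin m) (Fin m ⊕ Fin m) F) *ᵥ v = g v := fun g v => by
    change LinearMap.toMatrix' g.toLinearMap *ᵥ v = _
    rw [LinearMap.toMatrix'_mulVec]
    rfl
  have hisom : ∀ g, Φ g ∈ spGL m F ↔ g ∈ Isom F φ := fun g => by
    change (∀ u v, sympForm m F ((Φ g : Matrix (Fin m ⊕ Fin m) (Fin m ⊕ Fin m) F) *ᵥ u)
      ((Φ g : Matrix (Fin m ⊕ Fin m) (Fin m ⊕ Fin m) F) *ᵥ v) = sympForm m F u v) ↔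
      ∀ x y, Algebra.trace F K (φ (g x) (g y)) = Algebra.trace F K (φ x y)
    simp only [htr, hact]
  have hsemi : ∀ g, SemiV K g ↔ Φ g ∈ subalgebraNormalizer K := by
    intro g
    constructor
    · rintro ⟨σ, hσ⟩
      have hconj : ∀ k : K, (Φ g : Matrix (Fin m ⊕ Fin m) (Fin m ⊕ Fin m) F) *
          (k : Matrix (Fin m ⊕ Fin m) (Fin m ⊕ Fin m) F) *
          (((Φ g)⁻¹ : GL (Fin m ⊕ Fin m) F) : Matrix (Fin m ⊕ Fin m) (Fin m ⊕ Fin m) F) =
            (σ k : Matrix (Fin m ⊕ Fin m) (Fin m ⊕ Fin m) F) := fun k => by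
        refine Matrix.ext_of_mulVec_single fun i => ?_
        rw [← Matrix.mulVec_mulVec, ← Matrix.mulVec_mulVec, hact, ← hsmul, hσ, ← hact, gl_mulVec_inv_cancel, hsmul]
      have hinj : Function.Injective σ := fun a b h => by
        obtain ⟨v, hv⟩ := exists_ne (0 : Fin m ⊕ Fin m → F)
        exact smul_left_injective K hv (g.injective (show g (a • v) = g (b • v) by rw [hσ, hσ, h]))
      intro k
      refine ⟨fun hk => by rw [hconj ⟨k, hk⟩]; exact (σ ⟨k, hk⟩).2, fun hk => ?_⟩
      obtain ⟨k₀, hk₀⟩ := Finite.surjective_of_injective hinj ⟨_, hk⟩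
      have h2 := congrArg Subtype.val hk₀
      rw [← hconj k₀] at h2
      have h3 : (k₀ : Matrix (Fin m ⊕ Fin m) (Fin m ⊕ Fin m) F) = k :=
        (Φ g).isUnit.mul_left_cancel ((((Φ g)⁻¹).isUnit).mul_right_cancel h2)
      rw [← h3]
      exact k₀.2
    · intro hg
      refine ⟨fun c => ⟨_, (hg c).mp c.2⟩, fun c v => ?_⟩
      rw [hsmul, hsmul, ← hact, ← hact, Matrix.mulVec_mulVec, Matrix.mulVec_mulVec,
        Matrix.mul_assoc _ _ (Φ g : Matrix (Fin m ⊕ Fin m) (Fin m ⊕ Fin m) F), ← Units.val_mul, inv_mul_cancel,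
        Units.val_one, Matrix.mul_one]
  have hdim : ∀ e u : Fin m ⊕ Fin m → F, e ≠ 0 → φ u e = 0 → ∃ c : K, u = c • e := by
    intro e u he hu
    obtain ⟨e', he'⟩ := exists_dual hφ he
    have h5 := Module.finrank_mul_finrank F K (Fin m ⊕ Fin m → F)
    rw [hrk, Module.finrank_fintype_fun_eq_card, Fintype.card_sum, Fintype.card_fin] at h5
    have h3 := LinearMap.finrank_range_add_finrank_ker (φ.flip e)
    have htop : LinearMap.range (φ.flip e) = ⊤ := LinearMap.range_eq_top.mpr fun c =>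
      ⟨c • e', by rw [LinearMap.flip_apply, map_smul, LinearMap.smul_apply, he', smul_eq_mul, mul_one]⟩
    rw [htop, finrank_top, Module.finrank_self] at h3
    have hle : Submodule.span K {e} ≤ LinearMap.ker (φ.flip e) :=
      (Submodule.span_singleton_le_iff_mem _ _).mpr (hφ.alt e)
    have heq : Submodule.span K {e} = LinearMap.ker (φ.flip e) :=
      Submodule.eq_of_le_of_finrank_le hle (by rw [finrank_span_singleton he]; omega)
    have hu' : u ∈ LinearMap.ker (φ.flip e) := hu
    rw [← heq, Submodule.mem_span_singleton] at hu'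
    obtain ⟨c, hc⟩ := hu'
    exact ⟨c, hc.symm⟩
  haveI : Finite (K ≃ₐ[F] K) := Finite.of_injective (fun g : K ≃ₐ[F] K => (g : K → K)) DFunLike.coe_injective
  obtain ⟨σ, hσ⟩ : ∃ σ : K ≃ₐ[F] K, σ ≠ 1 := by
    by_contra hcon
    push Not at hcon
    haveI : Subsingleton (K ≃ₐ[F] K) := ⟨fun a b => (hcon a).trans (hcon b).symm⟩
    have hg : Nat.card (K ≃ₐ[F] K) = 2 := gal_card hrk
    rw [Nat.card_of_subsingleton (1 : K ≃ₐ[F] K)] at hg
    omega
  have h2K : (2 : K) = 0 := by rw [← map_ofNat (algebraMap F K) 2, h2, map_zero]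
  refine ⟨lt_of_le_of_ne inf_le_right fun h => ?_, fun M hM hMS => ?_⟩
  · -- a transvection outside the normaliser
    obtain ⟨θ, hθ⟩ := exists_not_base (F := F) (E := K) hrk hr
    obtain ⟨e, he⟩ := exists_ne (0 : Fin m ⊕ Fin m → F)
    obtain ⟨e', he'⟩ := exists_dual hφ he
    obtain ⟨σ, hσ⟩ := (hsemi _).mpr (h.ge ((hisom _).mpr (trace_transvection_isom hφ e (1 : F)))).1
    have hσid : ∀ c : K, σ c = c := fun c => by
      have h1 := hσ c e
      simp only [tvT_apply, map_smul φ c e, LinearMap.smul_apply, LinearMap.comp_apply, hφ.alt, smul_zero, map_zero,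
        zero_smul, add_zero] at h1
      exact (smul_left_injective K he h1).symm
    have hc : ∀ c : K, algebraMap F K (Algebra.trace F K c) = c * algebraMap F K (Algebra.trace F K 1) := fun c => by
      have h1 := hσ c e'
      simp only [tvT_apply, map_smul φ c e', LinearMap.smul_apply, he', smul_eq_mul, mul_one, one_smul, hσid,
        LinearMap.comp_apply, Algebra.linearMap_apply, smul_add, smul_smul, add_right_inj] at h1
      exact smul_left_injective K he h1
    obtain ⟨t, ht⟩ := Algebra.trace_surjective F K 1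
    by_cases h1 : Algebra.trace F K 1 = 0
    · have h2 := hc t
      rw [h1, map_zero, mul_zero, ht, map_one] at h2
      exact one_ne_zero h2
    · refine hθ (Algebra.trace F K θ * (Algebra.trace F K 1)⁻¹) ?_
      rw [map_mul, hc θ, map_inv₀, mul_assoc, mul_inv_cancel₀ ((map_ne_zero _).mpr h1), mul_one]
  rcases (⟨hφ, fun g hg hgi => hM ⟨(hsemi g).mp hg, (hisom g).mpr hgi⟩, fun g hg => (hisom g).mp (hMS hg), h2K, hrk,
      hσ, hdim⟩ : Setup φ (M.comap Φ.toMonoidHom) σ).overgroup
    with h | h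
  · refine Or.inl (le_antisymm (fun x hx => ?_) hM)
    obtain ⟨g, rfl⟩ := Φ.surjective x
    exact ⟨(hsemi g).mp (h g hx), hMS hx⟩
  · refine Or.inr (le_antisymm hMS (SpOver.spGL_le fun v c g hg => ?_))
    have h' : Φ (tvT hφ v (c • (Algebra.linearMap F K).comp (Algebra.trace F K))) ∈ M := h v c
    have e : Φ (tvT hφ v (c • (Algebra.linearMap F K).comp (Algebra.trace F K))) = g := by
      refine SpOver.tv_unique (fun x => ?_) hg
      rw [hact, tvT_apply, LinearMap.smul_apply, LinearMap.comp_apply, Algebra.linearMap_apply, htr, smul_assoc,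
        IsScalarTower.algebraMap_smul, smul_smul]
    rwa [← e]

end Cfsg.Agent.Classical.SpFour
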