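/-
Subfield subgroups of prime index are maximal in `Sp_4(q)`, `q` even.
-/
import Cfsg.Agent.Lib.Classical.SpSubfieldMaximal

set_option autoImplicit false
set_option linter.unusedSectionVars false
set_option linter.style.haveILetI false

namespace Cfsg.Agent.Classical.SpFour

open Matrix Cfsg.Geo
open Cfsg.Agent.Classical Cfsg.Agent.Classical.SpSubMax

universe u

variable {ι : Type} [Fintype ι] [DecidableEq ι] {F : Type u} [Field F] [Fintype F] {F₀ : Subfield F}
  {f : (ι → F) → (ι → F) → F} {K : Subgroup (GL ι F)}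

/-- The map of a symmetric matrix on two vectors. -/
def q2 (f : (ι → F) → (ι → F) → F) (r₁ r₂ : ι → F) (a b c : F) : (ι → F) → ι → F :=
  fun x => (a * f x r₁ + b * f x r₂) • r₁ + (b * f x r₁ + c * f x r₂) • r₂

omit [Fintype ι] [DecidableEq ι] in
theorem sq_mem (h2 : (2 : F) = 0) {a : F} (ha : a * a ∈ F₀) : a ∈ F₀ := by
  haveI : Finite F₀ := inferInstance
  have hinj : Function.Injective fun x : F₀ => x * x := fun x y h => by
    have h' : (x : F) * x = (y : F) * y := congrArg Subtype.val h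
    refine Subtype.ext (sub_eq_zero.mp (mul_self_eq_zero.mp ?_))
    linear_combination h' + ((y : F) * y - (x : F) * y) * h2
  obtain ⟨v, hv⟩ := (Finite.injective_iff_surjective.1 hinj) ⟨a * a, ha⟩
  have hv' : (v : F) * v = a * a := congrArg Subtype.val hv
  have : (v : F) = a := sub_eq_zero.mp (mul_self_eq_zero.mp (by
    linear_combination hv' + (a * a - (v : F) * a) * h2))
  exact this ▸ v.2

variable (S : Setup F₀ f K) (h2 : (2 : F) = 0)

include S h2

theorem swapf (x y : ι → F) : f x y = f y x := by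
  rw [S.symp.skew y x]
  linear_combination f x y * h2

theorem q2_add {r₁ r₂ : ι → F} (h12 : f r₁ r₂ = 0) {a b c a' b' c' : F} (h : In K (q2 f r₁ r₂ a b c))
    (h' : In K (q2 f r₁ r₂ a' b' c')) : In K (q2 f r₁ r₂ (a + a') (b + b') (c + c')) := by
  have h21 : f r₂ r₁ = 0 := by rw [swapf S h2, h12]
  refine (h.comp h').congr fun x => ?_
  simp only [q2, S.symp.bilinear.add_left, S.symp.bilinear.smul_left, S.symp.alternating, h12, h21]
  module

omit h2 in
theorem q2_swap {r₁ r₂ : ι → F} {a b c : F} (h : In K (q2 f r₁ r₂ a b c)) : In K (q2 f r₂ r₁ c b a) :=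
  h.congr fun x => by simp only [q2]; module

omit h2 in
theorem q2_conj {r₁ r₂ : ι → F} {a b c : F} (h : In K (q2 f r₁ r₂ a b c)) {y : GL ι F} (hy : y ∈ K) :
    In K (q2 f ((y : Matrix ι ι F) *ᵥ r₁) ((y : Matrix ι ι F) *ᵥ r₂) a b c) :=
  (h.conj hy).congr fun x => by simp only [q2, Matrix.mulVec_add, Matrix.mulVec_smul, conj_iso S hy]

theorem q2_diff {r₁ r₂ : ι → F} (h12 : f r₁ r₂ = 0) {a b c t : F} (h : In K (q2 f r₁ r₂ a b c)) {y : GL ι F}
    (hy : y ∈ K) (h1 : (y : Matrix ι ι F) *ᵥ r₁ = r₁) (ht : (y : Matrix ι ι F) *ᵥ r₂ = r₂ + t • r₁) :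
    In K (q2 f r₁ r₂ (c * t * t) (c * t) 0) := by
  have h' := q2_conj S h hy
  rw [h1, ht] at h'
  have h'' : In K (q2 f r₁ r₂ (a + c * t * t) (b + c * t) c) := h'.congr fun x => by
    simp only [q2, S.symp.bilinear.add_right, S.symp.bilinear.smul_right]
    match_scalars
    · linear_combination b * t * f x r₁ * h2
    · ring
  have h3 := q2_add S h2 h12 h'' h
  convert h3 using 2
  · linear_combination -a * h2
  · linear_combination -b * h2
  · linear_combination -c * h2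

/-- A rational pair with dual vectors. -/
structure Pair (F₀ : Subfield F) (f : (ι → F) → (ι → F) → F) (r₁ r₂ z₁ z₂ : ι → F) : Prop where
  r1 : ∀ i, r₁ i ∈ F₀
  r2 : ∀ i, r₂ i ∈ F₀
  z1 : ∀ i, z₁ i ∈ F₀
  z2 : ∀ i, z₂ i ∈ F₀
  orth : f r₁ r₂ = 0
  z11 : f z₁ r₁ = 1
  z12 : f z₁ r₂ = 0
  z22 : f z₂ r₂ = 1
  z21 : f z₂ r₁ = 0

variable {r₁ r₂ z₁ z₂ : ι → F} (hP : Pair F₀ f r₁ r₂ z₁ z₂)

include hP

omit S h2 in
theorem Pair.symm (h21 : f r₂ r₁ = 0) : Pair F₀ f r₂ r₁ z₂ z₁ :=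
  ⟨hP.r2, hP.r1, hP.z2, hP.z1, h21, hP.z22, hP.z21, hP.z11, hP.z12⟩

theorem q2_edge {a b c : F} (h : In K (q2 f r₁ r₂ a b c)) : In K (q2 f r₁ r₂ c c 0) := by
  obtain ⟨y, hy, hyx⟩ := exists_shear S hP.z2 hP.r1 hP.z21
  have h := q2_diff S h2 hP.orth (t := 1) h hy
    (by rw [hyx, S.symp.alternating, swapf S h2 r₁ z₂, hP.z21, zero_smul, zero_smul, add_zero, add_zero])
    (by rw [hyx, swapf S h2 r₂ z₂, hP.z22, swapf S h2 r₂ r₁, hP.orth, zero_smul, add_zero])
  simpa using h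

theorem q2_short {a b c : F} (h : In K (q2 f r₁ r₂ a b c)) : In K (q2 f r₁ r₂ 0 (a + b + c) 0) := by
  have h21 : f r₂ r₁ = 0 := by rw [swapf S h2, hP.orth]
  have hP' := hP.symm h21
  have e1 := q2_swap S (q2_edge S h2 hP' (q2_swap S h))
  have e2 := q2_edge S h2 hP e1
  have e3 := q2_swap S (q2_edge S h2 hP' (q2_swap S (q2_edge S h2 hP h)))
  convert q2_add S h2 hP.orth (q2_add S h2 hP.orth h e2) e3 using 2
  · linear_combination -a * h2
  · ring
  · linear_combination -c * h2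

/-- The transfer to the other plane through `r₁` gives an element moving `r₂` along `r₁`. -/
theorem mover {a b c : F} (h : In K (q2 f r₁ r₂ a b c)) :
    ∃ y ∈ K, (y : Matrix ι ι F) *ᵥ r₁ = r₁ ∧ (y : Matrix ι ι F) *ᵥ r₂ = r₂ + b • r₁ + c • z₂ := by
  obtain ⟨t, ht, htx⟩ := S.base (r₂ + z₂) 1 (fun i => add_mem (hP.r2 i) (hP.z2 i)) (one_mem _)
  have hr2z : f r₂ z₂ = 1 := by rw [swapf S h2, hP.z22]
  have hr1z : f r₁ z₂ = 0 := by rw [swapf S h2, hP.z21]
  have h21 : f r₂ r₁ = 0 := by rw [swapf S h2, hP.orth]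
  have h1 : (t : Matrix ι ι F) *ᵥ r₁ = r₁ := by
    rw [htx]; simp [tq, S.symp.bilinear.add_right, hP.orth, hr1z]
  have h2' : (t : Matrix ι ι F) *ᵥ r₂ = z₂ := by
    rw [htx, tq, S.symp.bilinear.add_right, S.symp.alternating, hr2z]
    match_scalars
    · linear_combination h2
    · ring
  have h' := q2_conj S h ht
  rw [h1, h2'] at h'
  obtain ⟨y, hy, hyx⟩ := h'
  refine ⟨y, hy, ?_, ?_⟩ <;> rw [hyx] <;> simp [q2, S.symp.alternating, hr1z, hr2z, h21, add_assoc]

/-- An irrational entry gives an irrational transvection with rational centre. -/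
theorem center_of_pair {a b x : F} (hx : x ∉ F₀) (h : In K (q2 f r₁ r₂ a b x)) :
    ∃ (v : ι → F) (l : F), v ≠ 0 ∧ (∀ i, v i ∈ F₀) ∧ l ∉ F₀ ∧ In K (tq f v l) := by
  have h21 : f r₂ r₁ = 0 := by rw [swapf S h2, hP.orth]
  have hP' := hP.symm h21
  have hone : In K (q2 f r₁ r₂ 0 0 1) := (S.base r₂ 1 hP.r2 (one_mem _)).congr fun z => by simp [q2, tq]
  obtain ⟨e, he, heK⟩ : ∃ e, e ∉ F₀ ∧ In K (q2 f r₁ r₂ 0 e 0) := by
    have e1 := q2_edge S h2 hP h
    obtain ⟨y, hy, hy1, hy2⟩ := mover S h2 hP e1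
    rw [zero_smul, add_zero] at hy2
    have e2 := q2_diff S h2 hP.orth hone hy hy1 hy2
    have e4 := q2_swap S (q2_edge S h2 hP' (q2_swap S e1))
    have e5 := q2_add S h2 hP.orth e1 e4
    have e6 := q2_diff S h2 hP.orth e5 hy hy1 hy2
    by_contra hcon
    push Not at hcon
    have m1 : x + x * x ∈ F₀ := by_contra fun hm => hcon _ hm (by
      convert q2_short S h2 hP e2 using 2; ring)
    have m2 : x * (x + x * x) ∈ F₀ := by_contra fun hm => hcon _ hm (by
      convert q2_short S h2 hP e6 using 2; ring)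
    by_cases h0 : x + x * x = 0
    · refine hx ?_
      rcases mul_eq_zero.mp (show x * (1 + x) = 0 by linear_combination h0) with h1 | h1
      · exact h1 ▸ zero_mem _
      · rw [show x = 1 by linear_combination h1 - h2]; exact one_mem _
    · exact hx (by simpa [h0] using mul_mem m2 (inv_mem m1))
  obtain ⟨y, hy, hy1, hy2⟩ := mover S h2 hP heK
  rw [zero_smul, add_zero] at hy2
  have h3 := q2_add S h2 hP.orth (q2_diff S h2 hP.orth hone hy hy1 hy2) heK
  refine ⟨r₁, e * e, fun h0 => ?_, hP.r1, fun hm => he (sq_mem h2 hm), h3.congr fun z => ?_⟩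
  · have := hP.z11
    rw [h0, f_zero_right S] at this
    exact zero_ne_one this
  · simp only [q2, tq, show (1 : F) * e + e = 0 by linear_combination e * h2]
    simp

omit hP

/-- An irrational element gives an irrational transvection with rational centre. -/
theorem exists_center (h4 : Fintype.card ι = 4) {g : GL ι F} (hg : g ∈ K)
    (hgn : ∃ k l k' l', (g : Matrix ι ι F) k k' * (g : Matrix ι ι F) l l' ∉ F₀) :
    ∃ (b : ι → F) (l : F), b ≠ 0 ∧ (∀ i, b i ∈ F₀) ∧ l ∉ F₀ ∧ In K (tq f b l) := by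
  classical
  have hadd := S.symp.bilinear.add_left
  have haddr := S.symp.bilinear.add_right
  have hsl := S.symp.bilinear.smul_left
  have hsr := S.symp.bilinear.smul_right
  obtain ⟨v, hvr, k, hk⟩ : ∃ v : ι → F, (∀ i, v i ∈ F₀) ∧ ∃ k, ((g : Matrix ι ι F) *ᵥ v) k ∉ F₀ := by
    by_contra hcon
    push Not at hcon
    obtain ⟨k, l, i, j, hbad⟩ := hgn
    have hent : ∀ k i, (g : Matrix ι ι F) k i ∈ F₀ := fun k i => by
      have := hcon (Pi.single i 1) (fun t => by rw [Pi.single_apply]; split_ifs; exacts [one_mem _, zero_mem _]) k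
      rwa [Matrix.mulVec_single_one, Matrix.col_apply] at this
    exact hbad (mul_mem (hent _ _) (hent _ _))
  obtain ⟨w, hwd⟩ : ∃ w, w = (g : Matrix ι ι F) *ᵥ v := ⟨_, rfl⟩
  rw [← hwd] at hk
  have hw : In K (tq f w 1) := hwd ▸ In.conj_tq S (S.base v 1 hvr (one_mem _)) hg
  obtain ⟨r₁, hr1, hs1⟩ : ∃ r : ι → F, (∀ i, r i ∈ F₀) ∧ f w r ∉ F₀ := by
    by_contra hcon
    push Not at hcon
    obtain ⟨u, hu⟩ := exists_rep S
      { toFun := fun x => (⟨f w fun i => (x i : F), hcon _ fun i => (x i).2⟩ : F₀)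
        map_add' := fun x y => Subtype.ext (haddr w (fun i => (x i : F)) fun i => (y i : F))
        map_smul' := fun c x => Subtype.ext (hsr (c : F) w fun i => (x i : F)) }
    have : w = fun i => (u i : F) := eq_of_rat S fun x => by rw [hu]; rfl
    exact hk (this ▸ (u k).2)
  have hr10 : r₁ ≠ 0 := fun h0 => hs1 (by rw [h0, f_zero_right S]; exact zero_mem _)
  obtain ⟨z, hz, hzr, -⟩ := exists_sep S (u := 0) (fun _ => zero_mem _) hr1 hr10
    (fun k e => hr10 (by rw [← e, smul_zero]))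
  obtain ⟨r₂, hr20, hr2, h21, h2z⟩ : ∃ r : ι → F, r ≠ 0 ∧ (∀ i, r i ∈ F₀) ∧ f r r₁ = 0 ∧ f r z = 0 := by
    let φ : (ι → F₀) →ₗ[F₀] F₀ × F₀ :=
      { toFun := fun x => (⟨f (fun i => (x i : F)) r₁, S.rat _ _ (fun i => (x i).2) hr1⟩,
          ⟨f (fun i => (x i : F)) z, S.rat _ _ (fun i => (x i).2) hz⟩)
        map_add' := fun x y => Prod.ext (Subtype.ext (hadd (fun i => (x i : F)) (fun i => (y i : F)) _))
          (Subtype.ext (hadd (fun i => (x i : F)) (fun i => (y i : F)) _))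
        map_smul' := fun c x => Prod.ext (Subtype.ext (hsl (c : F) (fun i => (x i : F)) _))
          (Subtype.ext (hsl (c : F) (fun i => (x i : F)) _)) }
    obtain ⟨x, hx, hx0⟩ : ∃ x, x ∈ LinearMap.ker φ ∧ x ≠ 0 := by
      refine Submodule.exists_mem_ne_zero_of_ne_bot fun e => ?_
      have h1 := φ.finrank_range_add_finrank_ker
      have h3 := Submodule.finrank_le (LinearMap.range φ)
      rw [e, finrank_bot, add_zero, Module.finrank_fintype_fun_eq_card] at h1
      rw [Module.finrank_prod, Module.finrank_self] at h3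
      omega
    exact ⟨fun i => (x i : F), fun e => hx0 (funext fun i => Subtype.ext (congrFun e i)), fun i => (x i).2,
      congrArg Subtype.val (congrArg Prod.fst (LinearMap.mem_ker.mp hx)),
      congrArg Subtype.val (congrArg Prod.snd (LinearMap.mem_ker.mp hx))⟩
  have hind : ∀ k : F, k • r₁ ≠ r₂ := fun k hk => by
    rw [← hk, hsl, swapf S h2 r₁ z, hzr, mul_one] at h2z
    exact hr20 (by rw [← hk, h2z, zero_smul])
  have hind' : ∀ k : F, k • r₂ ≠ r₁ := fun k hk => by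
    by_cases hk0 : k = 0
    · exact hr10 (by rw [← hk, hk0, zero_smul])
    · exact hind k⁻¹ (by rw [← hk, smul_smul, inv_mul_cancel₀ hk0, one_smul])
  have h12 : f r₁ r₂ = 0 := by rw [swapf S h2, h21]
  obtain ⟨z₁, hz1, hz11, hz12⟩ := exists_sep S hr2 hr1 hr10 hind'
  obtain ⟨z₂, hz2, hz22, hz21⟩ := exists_sep S hr1 hr2 hr20 hind
  obtain ⟨s, hs⟩ : ∃ s, s = f w r₁ := ⟨_, rfl⟩
  obtain ⟨s', hs'⟩ : ∃ s, s = f w r₂ := ⟨_, rfl⟩
  rw [← hs] at hs1
  obtain ⟨y, hy, hyx⟩ := exists_shear S hr1 hr2 h12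
  obtain ⟨ζ, hζ⟩ : ∃ ζ, ζ = s • r₂ + s' • r₁ := ⟨_, rfl⟩
  have hyw : (y : Matrix ι ι F) *ᵥ w = w + ζ := by rw [hyx, hζ, hs, hs']
  have hwζ : f w ζ = 0 := by rw [hζ, haddr, hsr, hsr, ← hs, ← hs']; linear_combination s * s' * h2
  have hζw : f ζ w = 0 := by rw [swapf S h2, hwζ]
  have hζr : f ζ r₁ = 0 := by rw [hζ, hadd, hsl, hsl, h21, S.symp.alternating]; ring
  have hrζ : f r₁ ζ = 0 := by rw [swapf S h2, hζr]
  have hrw : f r₁ w = s := by rw [swapf S h2, hs]
  have hD : In K fun x => f x ζ • w + (f x w + f x ζ) • ζ := by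
    have h1 := In.conj_tq S hw hy
    rw [hyw] at h1
    refine (h1.comp hw).congr fun x => ?_
    simp only [tq, hadd, haddr, hsl, S.symp.alternating, hwζ, one_mul]
    match_scalars
    · linear_combination f x w * h2
    · ring
  obtain ⟨M, hM, hMx⟩ := S.base r₁ 1 hr1 (one_mem _)
  have hMw : (M : Matrix ι ι F) *ᵥ w = w + s • r₁ := by rw [hMx, tq, one_mul, hs]
  have hMζ : (M : Matrix ι ι F) *ᵥ ζ = ζ := by rw [hMx, tq, hζr, mul_zero, zero_smul, add_zero]
  have hD' : In K fun x => f x ζ • (w + s • r₁) + (f x (w + s • r₁) + f x ζ) • ζ :=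
    (hD.conj hM).congr fun x => by
      simp only [Matrix.mulVec_add, Matrix.mulVec_smul, conj_iso S hM, hMw, hMζ]
  have hE : In K fun x => (s * f x ζ) • r₁ + (s * f x r₁ + f x ζ * (s * s)) • ζ :=
    (hD.comp hD').congr fun x => by
      simp only [hadd, haddr, hsl, hsr, S.symp.alternating, hwζ, hζw, hrw, hrζ]
      match_scalars
      · linear_combination f x ζ * h2
      · ring
      · linear_combination (f x w + f x ζ) * h2
  refine center_of_pair S h2 ⟨hr1, hr2, hz1, hz2, h12, hz11, hz12, hz22, hz21⟩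
    (a := s * s * (s' * s')) (b := s * s + s * s * s * s') (x := s * s * (s * s))
    (fun hm => hs1 (sq_mem h2 (sq_mem h2 hm))) (hE.congr fun x => ?_)
  simp only [q2, hζ, haddr, hsr]
  match_scalars
  · linear_combination s * s' * f x r₁ * h2
  · ring

end Cfsg.Agent.Classical.SpFour

namespace Cfsg.Agent.Classical.SpFour

open Matrix Cfsg.Geo

theorem subfield_isMaximal {F : Type*} [Field F] [Fintype F] {F₀ : Subfield F} (h2 : (2 : F) = 0) {r : ℕ}
    (hr : r.Prime) (hcard : Fintype.card F = Nat.card F₀ ^ r) (P : GL (Fin 2 ⊕ Fin 2) F) {ζ : F} (hζ : ζ ≠ 0)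
    (hP : IsFormRationalStructure (sympForm 2 F) F₀ ζ P) :
    IsMaximalIn (spGL 2 F) (subfieldSubgroup F₀ P ⊓ spGL 2 F) :=
  SpSubMax.isMaximal_of le_rfl hr hcard P hζ hP fun _ _ _ S hg hgn =>
    exists_center S h2 (by rw [Fintype.card_sum, Fintype.card_fin]) hg hgn

end Cfsg.Agent.Classical.SpFour
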